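import Groth.Agent.L05.LinTop.QuotientCompletion
import Groth.Agent.L05.AdicLim.FgLimit
import Mathlib.Topology.Algebra.UniformMulAction
import Mathlib.RingTheory.Finiteness.Ideal

/-!
# Completion of modules with an open adic submodule
-/

set_option autoImplicit false
set_option linter.style.haveILetI false

open Filter Topology UniformSpace
open scoped Pointwise

universe u v

namespace Groth.L05.LinTop

variable {R : Type u} [CommRing R] {M : Type v} [AddCommGroup M] [Module R M] [UniformSpace M]
  [IsUniformAddGroup M] [UniformContinuousConstSMul R M]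

/-- Closure of the image of a submodule in the completion. -/
noncomputable def cl (N : Submodule R M) : Submodule R (Completion M) where
  toAddSubmonoid := ((N.toAddSubgroup.map (Completion.toCompl : M →+ Completion M)).topologicalClosure).toAddSubmonoid
  smul_mem' c x hx := by
    refine map_mem_closure (continuous_const_smul c) hx ?_
    rintro _ ⟨m, hm, rfl⟩
    exact ⟨c • m, N.smul_mem c hm, (Completion.coe_smul c m)⟩

theorem coe_cl (N : Submodule R M) :
    (cl N : Set (Completion M)) = closure (((↑) : M → Completion M) '' (N : Set M)) := rfl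

theorem cl_mono {N P : Submodule R M} (h : N ≤ P) : cl N ≤ cl P :=
  fun _ hx => closure_mono (Set.image_mono h) hx

theorem coe_mem_cl {N : Submodule R M} {m : M} (h : m ∈ N) : (m : Completion M) ∈ cl N :=
  subset_closure ⟨m, h, rfl⟩

theorem smul_cl_le (J : Ideal R) (N : Submodule R M) : J • cl N ≤ cl (J • N) := by
  refine Submodule.smul_le.mpr fun r hr x hx => ?_
  refine map_mem_closure (continuous_const_smul r) hx ?_
  rintro _ ⟨m, hm, rfl⟩
  exact ⟨r • m, Submodule.smul_mem_smul hr hm, Completion.coe_smul r m⟩

variable (I : Ideal R) (M' : Submodule R M)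
  (hopen : ∀ n : ℕ, IsOpen ((I ^ n • M' : Submodule R M) : Set M))
  (hbasis : ∀ U ∈ 𝓝 (0 : M), ∃ n : ℕ, ((I ^ n • M' : Submodule R M) : Set M) ⊆ U)

include hopen in
theorem isOpen_cl (n : ℕ) : IsOpen (cl (I ^ n • M') : Set (Completion M)) :=
  isOpen_closure_image_coe (B := (I ^ n • M').toAddSubgroup) (hopen n)

include hopen hbasis in
theorem nonarchimedean : NonarchimedeanAddGroup M where
  is_nonarchimedean U hU := by
    obtain ⟨n, hn⟩ := hbasis U hU
    exact ⟨⟨(I ^ n • M').toAddSubgroup, hopen n⟩, hn⟩

include hbasis in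
theorem exists_cl_subset {U : Set (Completion M)} (hU : U ∈ 𝓝 0) :
    ∃ n, (cl (I ^ n • M') : Set (Completion M)) ⊆ U := by
  obtain ⟨V, hV, hVc, hVU⟩ := exists_mem_nhds_isClosed_subset hU
  obtain ⟨n, hn⟩ := hbasis _
    ((Completion.continuous_coe M).continuousAt.preimage_mem_nhds (by rwa [Completion.coe_zero]))
  exact ⟨n, (closure_minimal (Set.image_subset_iff.mpr hn) hVc).trans hVU⟩

include hopen hbasis in
theorem cl_smul (hI : I.FG) (n : ℕ) : cl (I ^ n • M') = I ^ n • cl M' := by
  refine le_antisymm ?_ (smul_cl_le _ _)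
  haveI := nonarchimedean I M' hopen hbasis
  haveI : NonarchimedeanAddGroup (Completion M) := nonarchimedean_completion
  obtain ⟨r, g, hg⟩ := Submodule.fg_iff_exists_fin_generating_family.mp (Ideal.FG.pow (n := n) hI)
  let f : (Fin r → Completion M) →+ Completion M :=
    { toFun := fun z => ∑ i, g i • z i
      map_zero' := by simp
      map_add' := fun z w => by simp [Finset.sum_add_distrib] }
  have hf : Continuous f := by
    show Continuous fun z : Fin r → Completion M => ∑ i, g i • z i
    exact continuous_finset_sum _ fun i _ => (continuous_apply i).const_smul (g i)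
  haveI : NonarchimedeanAddGroup (Fin r → Completion M) := ⟨fun U hU => by
    obtain ⟨t, ht, hsub⟩ := Filter.mem_pi'.mp (nhds_pi (a := (0 : Fin r → Completion M)) ▸ hU) |>.imp'
      id (fun s hs => hs) |> fun ⟨s, t, ht, hsub⟩ => (⟨t, ht, fun z hz => hsub fun i _ => hz i⟩ :
        ∃ t : Fin r → Set (Completion M), (∀ i, t i ∈ 𝓝 0) ∧ ∀ z : Fin r → Completion M,
          (∀ i, z i ∈ t i) → z ∈ U)
    choose k hk using fun i => exists_cl_subset I M' hbasis (ht i)
    refine ⟨⟨AddSubgroup.pi Set.univ fun i => (cl (I ^ k i • M')).toAddSubgroup,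
      isOpen_set_pi Set.finite_univ fun i _ => isOpen_cl I M' hopen (k i)⟩,
      fun z hz => hsub z fun i => hk i (hz i trivial)⟩⟩
  haveI hc : (𝓝 (0 : Fin r → Completion M)).IsCountablyGenerated := by
    rw [nhds_pi]
    haveI : (𝓝 (0 : Completion M)).IsCountablyGenerated := by
      refine (show (𝓝 (0 : Completion M)).HasBasis (fun _ : ℕ => True)
        (fun k => (cl (I ^ k • M') : Set (Completion M))) from ⟨fun U => ⟨fun hU => ?_, ?_⟩⟩).isCountablyGenerated
      · obtain ⟨k, hk⟩ := exists_cl_subset I M' hbasis hU
        exact ⟨k, trivial, hk⟩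
      · rintro ⟨k, -, hk⟩
        exact mem_of_superset ((isOpen_cl I M' hopen k).mem_nhds (zero_mem _)) hk
    infer_instance
  let H₀ : OpenAddSubgroup (Fin r → Completion M) :=
    ⟨AddSubgroup.pi Set.univ fun _ => (cl M').toAddSubgroup,
      isOpen_set_pi Set.finite_univ fun _ _ => by simpa using isOpen_cl I M' hopen 0⟩
  have himg : ∀ (P : Submodule R M) (H : OpenAddSubgroup (Fin r → Completion M)),
      (∀ z : Fin r → M, (∀ i, z i ∈ P) → (fun i => (z i : Completion M)) ∈ H) →
      (cl (I ^ n • P) : Set (Completion M)) ⊆ closure (f '' (H : Set _)) := by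
    intro P H hH
    refine closure_mono ?_
    rintro _ ⟨x, hx, rfl⟩
    rw [SetLike.mem_coe, ← hg] at hx
    obtain ⟨δ, hδ, rfl⟩ := Groth.L05.AdicLim.exists_sum_of_mem_span_smul g P hx
    refine ⟨fun i => (δ i : Completion M), hH δ hδ, ?_⟩
    show ∑ i, g i • (δ i : Completion M) = Completion.toCompl (∑ i, g i • δ i)
    rw [map_sum]
    exact Finset.sum_congr rfl fun i _ => (Completion.coe_smul (g i) (δ i)).symm
  have hop : ∀ H : OpenAddSubgroup (Fin r → Completion M), IsOpen (closure (f '' (H : Set _))) := by
    intro H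
    have hU : ∀ i, ∃ k, ∀ z ∈ cl (I ^ k • M'), (Pi.single i z : Fin r → Completion M) ∈ H := by
      intro i
      obtain ⟨k, hk⟩ := exists_cl_subset I M' hbasis (U := (fun z : Completion M => (Pi.single i z : Fin r → Completion M)) ⁻¹' (H : Set _))
        ((continuous_single (A := fun _ : Fin r => Completion M) i).continuousAt.preimage_mem_nhds (by
          rw [Pi.single_zero]
          exact H.mem_nhds_zero))
      exact ⟨k, fun z hz => hk hz⟩
    choose k hk using hU
    have hP := himg (I ^ (Finset.univ.sup k) • M') H fun z hz => by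
      rw [← Finset.univ_sum_single (fun i => (z i : Completion M))]
      exact sum_mem fun i _ => hk i _ (coe_mem_cl
        (Submodule.smul_mono_left (Ideal.pow_le_pow_right (Finset.le_sup (Finset.mem_univ i))) (hz i)))
    rw [← mul_smul, ← pow_add] at hP
    exact ((H.toAddSubgroup.map f).topologicalClosure).isOpen_of_mem_nhds (g := 0)
      (mem_of_superset ((isOpen_cl I M' hopen (n + Finset.univ.sup k)).mem_nhds (zero_mem _)) hP)
  intro x hx
  obtain ⟨z, hz, rfl⟩ := closure_image_subset_image hc f hf hop H₀
    (himg M' H₀ (fun z hz i _ => coe_mem_cl (hz i)) hx)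
  show ∑ i, g i • z i ∈ I ^ n • cl M'
  exact sum_mem fun i _ => Submodule.smul_mem_smul (hg ▸ Submodule.subset_span ⟨i, rfl⟩) (hz i trivial)

include hopen hbasis in
/-- The completion of a module with an open adic submodule. -/
theorem completion_adic_submodule (hI : I.FG) :
    (∃ M'' : Submodule R (Completion M),
        (∀ n : ℕ, IsOpen ((I ^ n • M'' : Submodule R (Completion M)) : Set (Completion M))) ∧
        ∀ U ∈ 𝓝 (0 : Completion M), ∃ n : ℕ,
          ((I ^ n • M'' : Submodule R (Completion M)) : Set (Completion M)) ⊆ U) ∧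
      ∀ n : ℕ, 0 < n →
        Function.Surjective ((QuotientAddGroup.mk' (I ^ n • ⊤ : Submodule R (Completion M)).toAddSubgroup).comp
          (Completion.toCompl : M →+ Completion M)) ∧
        ((QuotientAddGroup.mk' (I ^ n • ⊤ : Submodule R (Completion M)).toAddSubgroup).comp
          (Completion.toCompl : M →+ Completion M)).ker = (I ^ n • ⊤ : Submodule R M).toAddSubgroup := by
  have hcl := cl_smul I M' hopen hbasis hI
  refine ⟨⟨cl M', fun n => hcl n ▸ isOpen_cl I M' hopen n, fun U hU => ?_⟩, fun n _ => ⟨?_, ?_⟩⟩
  · obtain ⟨k, hk⟩ := exists_cl_subset I M' hbasis hU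
    exact ⟨k, hcl k ▸ hk⟩
  · intro c
    obtain ⟨c, rfl⟩ := QuotientAddGroup.mk'_surjective _ c
    have hU : {z | c - z ∈ cl (I ^ n • M')} ∈ 𝓝 c :=
      ((isOpen_cl I M' hopen n).preimage (continuous_const.sub continuous_id)).mem_nhds (by simp)
    obtain ⟨_, hy, m, rfl⟩ := mem_closure_iff_nhds.mp (Completion.denseRange_coe c) _ hU
    refine ⟨m, (QuotientAddGroup.eq).mpr ?_⟩
    have h2 : c - (m : Completion M) ∈ I ^ n • (⊤ : Submodule R (Completion M)) :=
      (smul_mono_right _ le_top : I ^ n • cl M' ≤ I ^ n • ⊤) (hcl n ▸ hy)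
    show -(m : Completion M) + c ∈ I ^ n • (⊤ : Submodule R (Completion M))
    rwa [neg_add_eq_sub]
  · ext m
    rw [AddMonoidHom.mem_ker, AddMonoidHom.comp_apply, QuotientAddGroup.mk'_apply,
      QuotientAddGroup.eq_zero_iff]
    constructor
    · intro hm
      have key : (I ^ n • ⊤ : Submodule R (Completion M)) ≤
          Submodule.span R (((↑) : M → Completion M) '' ((I ^ n • ⊤ : Submodule R M) : Set M)) ⊔
            cl (I ^ n • M') := by
        refine Submodule.smul_le.mpr fun a ha c _ => ?_
        have hU : {z | c - z ∈ cl M'} ∈ 𝓝 c :=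
          ((by simpa using isOpen_cl I M' hopen 0 : IsOpen (cl M' : Set (Completion M))).preimage
            (continuous_const.sub continuous_id)).mem_nhds (by simp)
        obtain ⟨_, hy, m, rfl⟩ := mem_closure_iff_nhds.mp (Completion.denseRange_coe c) _ hU
        rw [show a • c = a • (m : Completion M) + a • (c - m) by rw [smul_sub]; abel]
        exact Submodule.add_mem_sup
          (Submodule.subset_span ⟨a • m, Submodule.smul_mem_smul ha trivial, Completion.coe_smul a m⟩)
          (hcl n ▸ Submodule.smul_mem_smul ha hy)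
      obtain ⟨s, hs, t, ht, hst⟩ := Submodule.mem_sup.mp (key hm)
      have hs' : ∃ y ∈ (I ^ n • ⊤ : Submodule R M), (y : Completion M) = s := by
        clear hst
        induction hs using Submodule.span_induction with
        | mem s hs => exact hs
        | zero => exact ⟨0, zero_mem _, Completion.coe_zero⟩
        | add a b _ _ ha hb =>
          obtain ⟨y, hy, rfl⟩ := ha
          obtain ⟨z, hz, rfl⟩ := hb
          exact ⟨y + z, add_mem hy hz, Completion.coe_add y z⟩
        | smul c a _ ha =>
          obtain ⟨y, hy, rfl⟩ := ha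
          exact ⟨c • y, Submodule.smul_mem _ c hy, Completion.coe_smul c y⟩
      obtain ⟨y, hy, rfl⟩ := hs'
      have hmy : ((m - y : M) : Completion M) ∈ cl (I ^ n • M') := by
        rw [Completion.coe_sub, show (m : Completion M) = (y : Completion M) + t from hst.symm,
          add_sub_cancel_left]
        exact ht
      have hclosed : IsClosed ((I ^ n • M' : Submodule R M) : Set M) :=
        AddSubgroup.isClosed_of_isOpen (I ^ n • M').toAddSubgroup (hopen n)
      have hmem : m - y ∈ closure ((I ^ n • M' : Submodule R M) : Set M) := by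
        rw [(Completion.isUniformInducing_coe M).isInducing.closure_eq_preimage_closure_image]
        exact hmy
      rw [hclosed.closure_eq] at hmem
      show m ∈ I ^ n • (⊤ : Submodule R M)
      simpa using add_mem ((smul_mono_right _ le_top : I ^ n • M' ≤ I ^ n • ⊤) hmem) hy
    · intro hm
      have hle : I ^ n • (⊤ : Submodule R M) ≤
          { carrier := {x | (x : Completion M) ∈ I ^ n • (⊤ : Submodule R (Completion M))}
            add_mem' := fun {a b} ha hb => by
              simpa only [Set.mem_setOf_eq, Completion.coe_add] using add_mem ha hb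
            zero_mem' := by simp [Completion.coe_zero]
            smul_mem' := fun c x hx => by
              simpa only [Set.mem_setOf_eq, Completion.coe_smul] using Submodule.smul_mem _ c hx } :=
        Submodule.smul_le.mpr fun a ha x _ => by
          show ((a • x : M) : Completion M) ∈ I ^ n • (⊤ : Submodule R (Completion M))
          rw [Completion.coe_smul]
          exact Submodule.smul_mem_smul ha trivial
      exact hle hm

end Groth.L05.LinTop
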