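import Groth.Prelude.Def_W4stk3formalspacesTaut
import Mathlib.Topology.Algebra.InfiniteSum.Nonarchimedean
import Mathlib.Topology.Algebra.InfiniteSum.Ring
import Mathlib.Topology.Algebra.InfiniteSum.NatInt
import Mathlib.Topology.Algebra.OpenSubgroup
import Mathlib.RingTheory.AdicCompletion.Basic
import Mathlib.RingTheory.Finiteness.Ideal

/-!
# Linearly topologized rings: basic facts
-/

open Filter Topology

namespace Groth.L05.LinTop

universe u

section Top

variable {A : Type u} [CommRing A] [TopologicalSpace A]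

theorem isOpen_of_mem_nhds [ContinuousAdd A] {J : Ideal A} (h : (J : Set A) ∈ 𝓝 0) :
    IsOpen (J : Set A) :=
  J.toAddSubgroup.isOpen_of_mem_nhds h

theorem isOpen_of_le [ContinuousAdd A] {I J : Ideal A} (hI : IsOpen (I : Set A)) (h : I ≤ J) :
    IsOpen (J : Set A) :=
  isOpen_of_mem_nhds (mem_of_superset (hI.mem_nhds (zero_mem I)) h)

theorem isClosed_of_isOpen [IsTopologicalRing A] {J : Ideal A} (h : IsOpen (J : Set A)) :
    IsClosed (J : Set A) :=
  J.toAddSubgroup.isClosed_of_isOpen h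

theorem closure_le_of_le [IsTopologicalRing A] {I J : Ideal A} (hJ : IsOpen (J : Set A))
    (h : I ≤ J) : closure (I : Set A) ⊆ J :=
  closure_minimal h (isClosed_of_isOpen hJ)

theorem isOpen_closure_of_le [IsTopologicalRing A] {I J : Ideal A} (hI : IsOpen (I : Set A))
    (h : (I : Set A) ⊆ closure (J : Set A)) : IsOpen (closure (J : Set A)) := by
  rw [← Ideal.coe_closure]
  exact isOpen_of_le hI fun x hx => h hx

theorem exists_open_ideal [ContinuousAdd A] [IsLinearTopology A A] {U : Set A} (hU : U ∈ 𝓝 (0 : A)) :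
    ∃ J : Ideal A, IsOpen (J : Set A) ∧ (J : Set A) ⊆ U :=
  IsLinearTopology.hasBasis_open_ideal.mem_iff.mp hU

theorem isTN_iff [ContinuousAdd A] [IsLinearTopology A A] {x : A} :
    IsTopologicallyNilpotent x ↔ ∀ J : Ideal A, IsOpen (J : Set A) → ∃ n, x ^ n ∈ J := by
  constructor
  · exact fun h J hJ => h.exists_pow_mem_of_mem_nhds (hJ.mem_nhds (zero_mem J))
  · intro h
    refine IsLinearTopology.hasBasis_open_ideal.tendsto_right_iff.mpr fun J hJ => ?_
    obtain ⟨n, hn⟩ := h J hJ
    refine eventually_atTop.mpr ⟨n, fun m hm => ?_⟩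
    exact J.pow_mem_of_pow_mem hn hm

theorem nonarchimedeanAddGroup [IsTopologicalRing A] [IsLinearTopology A A] :
    NonarchimedeanAddGroup A where
  is_nonarchimedean U hU := by
    obtain ⟨J, hJ, hJU⟩ := exists_open_ideal hU
    exact ⟨⟨J.toAddSubgroup, hJ⟩, hJU⟩

theorem closure_mul_le [IsTopologicalRing A] (I J : Ideal A) :
    I.closure * J.closure ≤ (I * J).closure := by
  refine Ideal.mul_le.mpr fun a ha b hb => ?_
  exact map_mem_closure₂ continuous_mul ha hb fun x hx y hy => Ideal.mul_mem_mul hx hy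

theorem le_closure [IsTopologicalRing A] (I : Ideal A) : I ≤ I.closure :=
  fun _ hx => subset_closure hx

theorem closure_pow_le [IsTopologicalRing A] (I : Ideal A) (n : ℕ) :
    I.closure ^ n ≤ (I ^ n).closure := by
  induction n with
  | zero => rw [pow_zero, pow_zero]; exact le_closure 1
  | succ n ih =>
    rw [pow_succ, pow_succ]
    exact (Ideal.mul_mono_left ih).trans (closure_mul_le _ _)

theorem closure_mono [IsTopologicalRing A] {I J : Ideal A} (h : I ≤ J) : I.closure ≤ J.closure :=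
  fun _ hx => _root_.closure_mono h hx

theorem isIdealOfDefinition_of_isAdic [IsTopologicalRing A] {I : Ideal A} (h : IsAdic I) :
    _root_.LinTop.IsIdealOfDefinition A I := by
  obtain ⟨h1, h2⟩ := isAdic_iff.mp h
  refine ⟨by simpa using h1 1, fun U hU => ?_⟩
  obtain ⟨n, hn⟩ := h2 U hU
  exact ⟨n + 1, n.succ_pos, (SetLike.coe_subset_coe.mpr (Ideal.pow_le_pow_right n.le_succ)).trans hn⟩

theorem isLinearTopology_of_isAdic {I : Ideal A} (h : IsAdic I) : IsLinearTopology A A :=
  IsLinearTopology.mk_of_hasBasis A h.hasBasis_nhds_zero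

theorem isAdic_of_isIdealOfDefinition [IsTopologicalRing A] {I : Ideal A}
    (hI : _root_.LinTop.IsIdealOfDefinition A I)
    (hopen : ∀ n : ℕ, IsOpen ((I ^ n : Ideal A) : Set A)) : IsAdic I :=
  isAdic_iff.mpr ⟨hopen, fun s hs => let ⟨n, _, hn⟩ := hI.2 s hs; ⟨n, hn⟩⟩

theorem isTN_of_mem {I : Ideal A} (hI : _root_.LinTop.IsIdealOfDefinition A I) {x : A}
    (hx : x ∈ I) : IsTopologicallyNilpotent x := by
  refine tendsto_def.mpr fun U hU => ?_
  obtain ⟨n, -, hn⟩ := hI.2 U hU
  exact eventually_atTop.mpr ⟨n, fun m hm =>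
    hn (Ideal.pow_le_pow_right hm (Ideal.pow_mem_pow hx m))⟩

theorem isWeakIdealOfDefinition {I : Ideal A} (hI : _root_.LinTop.IsIdealOfDefinition A I) :
    _root_.LinTop.IsWeakIdealOfDefinition A I :=
  ⟨hI.1, fun _ hx => isTN_of_mem hI hx⟩

theorem isTN_iff_isNilpotent_mk [ContinuousAdd A] [IsLinearTopology A A] {I : Ideal A}
    (hI : _root_.LinTop.IsIdealOfDefinition A I) {x : A} :
    IsTopologicallyNilpotent x ↔ IsNilpotent (Ideal.Quotient.mk I x) := by
  constructor
  · intro h
    obtain ⟨n, hn⟩ := isTN_iff.mp h I hI.1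
    exact ⟨n, by rw [← map_pow]; exact Ideal.Quotient.eq_zero_iff_mem.mpr hn⟩
  · rintro ⟨k, hk⟩
    rw [← map_pow, Ideal.Quotient.eq_zero_iff_mem] at hk
    refine isTN_iff.mpr fun J hJ => ?_
    obtain ⟨n, -, hn⟩ := hI.2 J (hJ.mem_nhds (zero_mem J))
    exact ⟨k * n, by rw [pow_mul]; exact hn (Ideal.pow_mem_pow hk n)⟩

theorem sup_pow_le (I J : Ideal A) (n : ℕ) : (I ⊔ J) ^ n ≤ I ⊔ J ^ n := by
  induction n with
  | zero => simp
  | succ n ih =>
    rw [pow_succ, pow_succ]
    refine (Ideal.mul_mono_left ih).trans ?_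
    rw [Ideal.sup_mul, Ideal.mul_sup (J ^ n)]
    exact sup_le (Ideal.mul_le_left.trans le_sup_left) (sup_le (Ideal.mul_le_right.trans le_sup_left) le_sup_right)

theorem exists_isIdealOfDefinition_ge [ContinuousAdd A] {I : Ideal A}
    (hI : _root_.LinTop.IsIdealOfDefinition A I) {I' : Ideal A} {n : ℕ} (hn : 0 < n)
    (h : I' ^ n ≤ I) :
    _root_.LinTop.IsIdealOfDefinition A (I ⊔ I') := by
  refine ⟨isOpen_of_le hI.1 le_sup_left, fun U hU => ?_⟩
  obtain ⟨m, hm, hU⟩ := hI.2 U hU
  refine ⟨n * m, Nat.mul_pos hn hm, ?_⟩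
  refine (SetLike.coe_subset_coe.mpr ?_).trans hU
  rw [pow_mul]
  exact Ideal.pow_right_mono ((sup_pow_le I I' n).trans (sup_le le_rfl h)) m

/-- For a preadmissible ring whose closures of powers of an ideal of definition are open. -/
theorem isWeaklyPreadic_of [IsTopologicalRing A] [IsLinearTopology A A] {I : Ideal A}
    (hI : _root_.LinTop.IsIdealOfDefinition A I)
    (hopen : ∀ n : ℕ, 0 < n → IsOpen (closure ((I ^ n : Ideal A) : Set A))) :
    _root_.LinTop.IsWeaklyPreadic A := by
  refine ⟨inferInstance, I, fun n => ?_, fun U hU => ?_⟩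
  · rcases Nat.eq_zero_or_pos n with rfl | h
    · simp
    · exact hopen n h
  · obtain ⟨W, hW, hWU⟩ := exists_open_ideal hU
    obtain ⟨n, -, hn⟩ := hI.2 W (hW.mem_nhds (zero_mem W))
    exact ⟨n, (closure_le_of_le hW hn).trans hWU⟩

theorem isIdealOfDefinition_closure_of_isWeaklyPreadic [IsTopologicalRing A] {I : Ideal A}
    (hopen : ∀ n : ℕ, IsOpen (closure ((I ^ n : Ideal A) : Set A)))
    (hbasis : ∀ U ∈ 𝓝 (0 : A), ∃ n : ℕ, closure ((I ^ n : Ideal A) : Set A) ⊆ U) :
    _root_.LinTop.IsIdealOfDefinition A I.closure := by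
  refine ⟨by rw [Ideal.coe_closure]; simpa using hopen 1, fun U hU => ?_⟩
  obtain ⟨n, hn⟩ := hbasis U hU
  refine ⟨n + 1, n.succ_pos, fun x hx => hn ?_⟩
  exact closure_mono (Ideal.pow_le_pow_right n.le_succ) (closure_pow_le I (n + 1) hx)

theorem isOpen_closure_pow_of_isWeaklyPreadic [IsTopologicalRing A]
    (hA : _root_.LinTop.IsWeaklyPreadic A) {I : Ideal A} (hI : IsOpen (I : Set A)) (n : ℕ) :
    IsOpen (closure ((I ^ n : Ideal A) : Set A)) := by
  obtain ⟨-, K, hopen, hbasis⟩ := hA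
  obtain ⟨m, hm⟩ := hbasis I (hI.mem_nhds (zero_mem I))
  have hle : K ^ (m * n) ≤ I ^ n := by
    rw [pow_mul]
    exact Ideal.pow_right_mono (fun x hx => hm (subset_closure hx)) n
  have h1 := hopen (m * n)
  rw [← Ideal.coe_closure] at h1
  exact isOpen_closure_of_le h1 (closure_mono hle)

end Top

section Complete

variable {A : Type u} [CommRing A] [UniformSpace A] [IsUniformAddGroup A] [IsTopologicalRing A]
  [IsLinearTopology A A] [T2Space A] [CompleteSpace A]

theorem summable_of_tendsto {c : ℕ → A} (hc : Tendsto c atTop (𝓝 0)) : Summable c := by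
  have := nonarchimedeanAddGroup (A := A)
  exact NonarchimedeanAddGroup.summable_of_tendsto_cofinite_zero (by rwa [Nat.cofinite_eq_atTop])

theorem tendsto_of_mem_pow {I : Ideal A} (hI : ∀ U ∈ 𝓝 (0 : A), ∃ n, ((I ^ n : Ideal A) : Set A) ⊆ U)
    (n : ℕ) {d : ℕ → A} (hd : ∀ k, d k ∈ I ^ (n + k)) : Tendsto d atTop (𝓝 0) := by
  refine tendsto_def.mpr fun U hU => ?_
  obtain ⟨m, hm⟩ := hI U hU
  exact eventually_atTop.mpr ⟨m, fun k hk => hm (Ideal.pow_le_pow_right (by omega) (hd k))⟩

/-- A convergent series with `k`-th term in `I ^ (n + k)` sums to an element of `I ^ n`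
if `I` is finitely generated. -/
theorem hasSum_mem_pow {I : Ideal A} (hfg : I.FG)
    (hI : ∀ U ∈ 𝓝 (0 : A), ∃ n, ((I ^ n : Ideal A) : Set A) ⊆ U) (n : ℕ) {d : ℕ → A}
    (hd : ∀ k, d k ∈ I ^ (n + k)) {s : A} (hs : HasSum d s) : s ∈ I ^ n := by
  obtain ⟨G, hG⟩ := Ideal.FG.pow hfg (n := n)
  have hmem : ∀ k, ∃ c : (G : Set A) →₀ A, (∀ g, c g ∈ I ^ k) ∧
      (c.sum fun g a => a • ((g : A))) = d k := by
    intro k
    have := hd k
    rw [add_comm, pow_add, ← smul_eq_mul, ← hG] at this
    rw [show (G : Set A) = Set.range (Subtype.val : ↥(G : Set A) → A) from Subtype.range_coe.symm] at this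
    obtain ⟨c, hc, hc'⟩ := (Submodule.mem_ideal_smul_span_iff_exists_sum _ _ _).mp this
    exact ⟨c, hc, hc'⟩
  choose c hc hsum using hmem
  have hsummable : ∀ g, Summable fun k => c k g := fun g =>
    summable_of_tendsto (tendsto_of_mem_pow hI 0 fun k => by simpa using hc k g)
  choose t ht using hsummable
  have h2 : HasSum d (∑ g, t g * (g : A)) := by
    have : d = fun k => ∑ g, c k g * (g : A) := funext fun k => by
      rw [← hsum k, Finsupp.sum_fintype]
      · simp [smul_eq_mul]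
      · simp
    rw [this]
    exact hasSum_sum fun g _ => (ht g).mul_right _
  rw [hs.unique h2]
  exact Submodule.sum_mem _ fun g _ => Ideal.mul_mem_left _ _ (hG ▸ Ideal.subset_span g.2)

theorem isAdicComplete_of_fg {I : Ideal A} (hfg : I.FG)
    (hI : ∀ U ∈ 𝓝 (0 : A), ∃ n, ((I ^ n : Ideal A) : Set A) ⊆ U) : IsAdicComplete I A := by
  have := nonarchimedeanAddGroup (A := A)
  refine { haus' := fun x hx => ?_, prec' := fun f hf => ?_ }
  · by_contra hne
    obtain ⟨n, hn⟩ := hI {x}ᶜ (isOpen_compl_singleton.mem_nhds (Ne.symm hne))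
    refine hn ?_ rfl
    simpa [SModEq.sub_mem, Ideal.mul_top] using hx n
  · have hstep : ∀ k, f (k + 1) - f k ∈ I ^ k := fun k => by
      have := (SModEq.sub_mem.mp (hf k.le_succ))
      simp only [smul_eq_mul, Ideal.mul_top] at this
      simpa using neg_mem this
    obtain ⟨L, hL⟩ := cauchySeq_tendsto_of_complete
      (NonarchimedeanAddGroup.cauchySeq_of_tendsto_sub_nhds_zero
        (tendsto_of_mem_pow hI 0 fun k => by simpa using hstep k))
    refine ⟨L, fun n => ?_⟩
    rw [SModEq.sub_mem]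
    simp only [smul_eq_mul, Ideal.mul_top]
    have hd : ∀ k, f (n + (k + 1)) - f (n + k) ∈ I ^ (n + k) := fun k => hstep (n + k)
    obtain ⟨s, hs⟩ := summable_of_tendsto (tendsto_of_mem_pow hI n hd)
    have h1 := hs.tendsto_sum_nat
    simp only [Finset.sum_range_sub (fun k => f (n + k)), add_zero] at h1
    have h2 : Tendsto (fun N => f (n + N) - f n) atTop (𝓝 (L - f n)) :=
      (hL.comp (tendsto_atTop_mono (fun k => Nat.le_add_left k n) tendsto_id)).sub_const _
    have : s = L - f n := tendsto_nhds_unique h1 h2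
    rw [← neg_sub L (f n)]
    exact neg_mem (this ▸ hasSum_mem_pow hfg hI n hd hs)

theorem isUnit_one_add_of_isTN {x : A} (hx : IsTopologicallyNilpotent x) : IsUnit (1 + x) := by
  have hI : ∀ U ∈ 𝓝 (0 : A), ∃ n, ((Ideal.span {x} ^ n : Ideal A) : Set A) ⊆ U := fun U hU => by
    obtain ⟨J, hJ, hJU⟩ := exists_open_ideal hU
    obtain ⟨n, hn⟩ := isTN_iff.mp hx J hJ
    refine ⟨n, subset_trans ?_ hJU⟩
    rw [Ideal.span_singleton_pow]
    exact Ideal.span_le.mpr (Set.singleton_subset_iff.mpr hn)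
  have := isAdicComplete_of_fg (Submodule.fg_span_singleton x) hI
  have h := Ideal.mem_jacobson_bot.mp
    (IsAdicComplete.le_jacobson_bot (Ideal.span {x}) (Ideal.mem_span_singleton_self x)) 1
  rwa [mul_one, add_comm] at h

theorem le_jacobson_of_isTN {I : Ideal A} (hI : ∀ x ∈ I, IsTopologicallyNilpotent x) :
    I ≤ (⊥ : Ideal A).jacobson := fun x hx => Ideal.mem_jacobson_bot.mpr fun y => by
  rw [add_comm]
  exact isUnit_one_add_of_isTN (hI _ (I.mul_mem_right y hx))

/-- If the closures of the powers of a finitely generated ideal form a basis of open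
neighbourhoods of zero in a complete ring, the topology is adic. -/
theorem isAdic_of_fg_closure {I : Ideal A} (hfg : I.FG)
    (hopen : ∀ n : ℕ, IsOpen (closure ((I ^ n : Ideal A) : Set A)))
    (hbasis : ∀ U ∈ 𝓝 (0 : A), ∃ n : ℕ, closure ((I ^ n : Ideal A) : Set A) ⊆ U) : IsAdic I := by
  have hI : ∀ U ∈ 𝓝 (0 : A), ∃ n, ((I ^ n : Ideal A) : Set A) ⊆ U := fun U hU =>
    let ⟨n, hn⟩ := hbasis U hU; ⟨n, subset_closure.trans hn⟩
  have key : ∀ n, closure ((I ^ n : Ideal A) : Set A) ⊆ (I ^ n : Ideal A) := by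
    intro n x hx
    have hstep : ∀ (k : ℕ) (y : (I ^ (n + k)).closure), ∃ d ∈ I ^ (n + k),
        (y : A) - d ∈ (I ^ (n + (k + 1))).closure := by
      rintro k ⟨y, hy⟩
      have hU : {z | y - z ∈ (I ^ (n + (k + 1))).closure} ∈ 𝓝 y := by
        refine ((hopen (n + (k + 1))).preimage (continuous_const.sub continuous_id)).mem_nhds ?_
        show y - y ∈ closure _
        rw [sub_self]
        exact subset_closure (zero_mem _)
      obtain ⟨d, hd1, hd2⟩ := mem_closure_iff_nhds.mp (show y ∈ closure _ from hy) _ hU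
      exact ⟨d, hd2, hd1⟩
    choose d hd hd' using hstep
    let r : (k : ℕ) → (I ^ (n + k)).closure :=
      fun k => Nat.rec (motive := fun k => (I ^ (n + k)).closure) ⟨x, hx⟩
        (fun k y => ⟨(y : A) - d k y, hd' k y⟩) k
    have hr : ∀ k, (r (k + 1)).1 = (r k).1 - d k (r k) := fun k => rfl
    obtain ⟨s, hs⟩ := summable_of_tendsto (tendsto_of_mem_pow hI n fun k => hd k (r k))
    have hpart : ∀ N, ∑ k ∈ Finset.range N, d k (r k) = x - r N := by
      intro N
      induction N with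
      | zero => simp [r]
      | succ N ih => rw [Finset.sum_range_succ, ih, hr]; abel
    have h0 : Tendsto (fun N => (r N : A)) atTop (𝓝 0) := by
      refine tendsto_def.mpr fun U hU => ?_
      obtain ⟨m, hm⟩ := hbasis U hU
      exact eventually_atTop.mpr ⟨m, fun N hN => hm
        (_root_.closure_mono (SetLike.coe_subset_coe.mpr (Ideal.pow_le_pow_right (by omega)))
          (r N).2)⟩
    have h1 := hs.tendsto_sum_nat
    simp only [hpart] at h1
    have : s = x := tendsto_nhds_unique h1 (by simpa using h0.const_sub x)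
    exact this ▸ hasSum_mem_pow hfg hI n (fun k => hd k (r k)) hs
  refine isAdic_iff.mpr ⟨fun n => ?_, hI⟩
  rw [show ((I ^ n : Ideal A) : Set A) = closure ((I ^ n : Ideal A) : Set A) from
    subset_antisymm subset_closure (key n)]
  exact hopen n

end Complete

end Groth.L05.LinTop
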