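import Groth.Agent.L05.LinTop.Taut
import Mathlib.Topology.Algebra.UniformRing

/-!
# Completion of a linearly topologized ring
-/

open Filter Topology UniformSpace

namespace Groth.L05.LinTop

universe u

variable {A : Type u} [CommRing A] [UniformSpace A] [IsUniformAddGroup A] [IsTopologicalRing A]
  [IsLinearTopology A A]

theorem map_coeRingHom_le_closure_image (I : Ideal A) :
    ((I.map (Completion.coeRingHom : A →+* Completion A) : Ideal (Completion A)) : Set (Completion A)) ⊆
      closure (((↑) : A → Completion A) '' (I : Set A)) := by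
  intro x hx
  induction hx using Submodule.span_induction with
  | mem y hy => exact subset_closure hy
  | zero => exact subset_closure ⟨0, zero_mem I, Completion.coe_zero⟩
  | add y z _ _ hy hz =>
    exact map_mem_closure₂ continuous_add hy hz fun _ ⟨a, ha, ea⟩ _ ⟨b, hb, eb⟩ =>
      ⟨a + b, add_mem ha hb, by rw [Completion.coe_add, ea, eb]⟩
  | smul r y _ hy =>
    have hr : r ∈ closure (Set.range ((↑) : A → Completion A)) := Completion.denseRange_coe r
    exact map_mem_closure₂ continuous_mul hr hy fun _ ⟨a, ea⟩ _ ⟨b, hb, eb⟩ =>
      ⟨a * b, I.mul_mem_left a hb, by rw [Completion.coe_mul, ea, eb, smul_eq_mul]⟩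

theorem closure_map_coeRingHom (I : Ideal A) :
    closure ((I.map (Completion.coeRingHom : A →+* Completion A) : Ideal (Completion A)) :
      Set (Completion A)) = closure (((↑) : A → Completion A) '' (I : Set A)) :=
  subset_antisymm (closure_minimal (map_coeRingHom_le_closure_image I) isClosed_closure)
    (_root_.closure_mono (Set.image_subset_iff.mpr fun _ hx => Ideal.mem_map_of_mem _ hx))

theorem isTaut_coeRingHom :
    _root_.LinTop.IsTaut (Completion.coeRingHom : A →+* Completion A) := by
  refine ⟨Completion.continuous_coe A, fun I hI => ?_, fun U hU => ?_⟩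
  · have h := (Completion.isDenseInducing_coe (α := A)).closure_image_mem_nhds
      (hI.mem_nhds (zero_mem I))
    rw [Completion.coe_zero] at h
    rw [← closure_map_coeRingHom, ← Ideal.coe_closure] at h
    rw [← Ideal.coe_closure]
    exact isOpen_of_mem_nhds h
  · obtain ⟨V, hV, hVc, hVU⟩ := exists_mem_nhds_isClosed_subset hU
    obtain ⟨I, hI, hIV⟩ := exists_open_ideal
      ((Completion.continuous_coe A).continuousAt.preimage_mem_nhds (by rwa [Completion.coe_zero]))
    refine ⟨I, hI, subset_trans ?_ hVU⟩
    rw [closure_map_coeRingHom]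
    exact closure_minimal (Set.image_subset_iff.mpr hIV) hVc

theorem isLinearTopology_completion : IsLinearTopology (Completion A) (Completion A) := by
  refine IsLinearTopology.mk_of_hasBasis _
    (p := fun I : Ideal A => IsOpen (I : Set A))
    (s := fun I => (I.map (Completion.coeRingHom : A →+* Completion A)).closure) ?_
  refine hasBasis_iff.mpr fun U => ⟨fun hU => ?_, fun ⟨I, hI, hIU⟩ => ?_⟩
  · obtain ⟨I, hI, hIU⟩ := isTaut_coeRingHom.2.2 U hU
    exact ⟨I, hI, hIU⟩
  · exact mem_of_superset ((isTaut_coeRingHom.2.1 I hI).mem_nhds (subset_closure (zero_mem _))) hIU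

end Groth.L05.LinTop
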