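import Groth.Agent.L05.LinTop.Taut
import Mathlib.RingTheory.Ideal.Quotient.Operations

/-!
# Adic rings from finitely generated ideals
-/

open Filter Topology

namespace Groth.L05.LinTop

universe u v

variable {A : Type u} [CommRing A] [UniformSpace A] [IsUniformAddGroup A] [IsTopologicalRing A]
  [IsLinearTopology A A] [T2Space A] [CompleteSpace A]

theorem isAdicRing_of_closure {K : Ideal A} (hfg : K.FG)
    (hopen : ∀ n : ℕ, IsOpen (closure ((K ^ n : Ideal A) : Set A)))
    (hbasis : ∀ U ∈ 𝓝 (0 : A), ∃ n : ℕ, closure ((K ^ n : Ideal A) : Set A) ⊆ U) :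
    _root_.LinTop.IsAdicRing A ∧ ∃ J : Ideal A, _root_.LinTop.IsIdealOfDefinition A J ∧ J.FG := by
  have h := isAdic_of_fg_closure hfg hopen hbasis
  exact ⟨⟨⟨K, h⟩, inferInstance, inferInstance⟩, K, isIdealOfDefinition_of_isAdic h, hfg⟩

theorem isAdicRing_of_fg_cotangent (hA : _root_.LinTop.IsWeaklyPreadic A) {I : Ideal A}
    (hI : _root_.LinTop.IsIdealOfDefinition A I)
    (hfg : (I.map (Ideal.Quotient.mk ((I ^ 2).closure))).FG) :
    _root_.LinTop.IsAdicRing A ∧ ∃ J : Ideal A, _root_.LinTop.IsIdealOfDefinition A J ∧ J.FG := by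
  obtain ⟨T, hT⟩ := hfg
  have hT' : ∀ t : (T : Set (A ⧸ (I ^ 2).closure)), ∃ a ∈ I, Ideal.Quotient.mk (I ^ 2).closure a = t := fun t =>
    (Ideal.mem_map_iff_of_surjective _ Ideal.Quotient.mk_surjective).mp (by rw [← hT]; exact Ideal.subset_span t.2)
  choose a ha hat using hT'
  let K := Ideal.span (Set.range a)
  have hKI : K ≤ I := Ideal.span_le.mpr (Set.range_subset_iff.mpr ha)
  have hIK : I ≤ K ⊔ (I ^ 2).closure := by
    intro x hx
    have := Ideal.mem_map_of_mem (Ideal.Quotient.mk (I ^ 2).closure) hx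
    rw [← hT] at this
    have h2 : Ideal.Quotient.mk (I ^ 2).closure x ∈ K.map (Ideal.Quotient.mk (I ^ 2).closure) := by
      refine Ideal.span_le.mpr (fun t ht => ?_) this
      have h3 : Ideal.Quotient.mk (I ^ 2).closure (a ⟨t, ht⟩) ∈ K.map (Ideal.Quotient.mk (I ^ 2).closure) :=
        Ideal.mem_map_of_mem _ (Ideal.subset_span ⟨⟨t, ht⟩, rfl⟩)
      rw [hat] at h3
      exact h3
    rw [← Ideal.mem_comap, Ideal.comap_map_of_surjective _ Ideal.Quotient.mk_surjective,
      ← RingHom.ker_eq_comap_bot, Ideal.mk_ker] at h2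
    exact h2
  have hclI : (I ^ 2).closure ≤ I := fun x hx => closure_le_of_le hI.1 (Ideal.pow_le_self two_ne_zero) hx
  have hstep : ∀ n : ℕ, I ^ n ≤ K ^ n ⊔ (I ^ (n + 1)).closure := by
    intro n
    induction n with
    | zero => simp
    | succ n ih =>
      calc I ^ (n + 1) = I ^ n * I := pow_succ _ _
        _ ≤ (K ^ n ⊔ (I ^ (n + 1)).closure) * (K ⊔ (I ^ 2).closure) := Ideal.mul_mono ih hIK
        _ ≤ K ^ (n + 1) ⊔ (I ^ (n + 1 + 1)).closure := by
          rw [Ideal.sup_mul, Ideal.mul_sup, Ideal.mul_sup, ← pow_succ]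
          refine sup_le (sup_le le_sup_left ?_) (sup_le ?_ ?_) <;> refine le_sup_of_le_right ?_
          · refine (Ideal.mul_mono ((Ideal.pow_right_mono hKI n).trans (le_closure _)) le_rfl).trans ?_
            refine (closure_mul_le _ _).trans (closure_mono ?_)
            rw [← pow_add]
          · refine (Ideal.mul_mono le_rfl (hKI.trans (le_closure I))).trans ?_
            refine (closure_mul_le _ _).trans (closure_mono ?_)
            rw [← pow_succ]
          · refine (closure_mul_le _ _).trans (closure_mono ?_)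
            rw [← pow_add]
            exact Ideal.pow_le_pow_right (by omega)
  have hstep2 : ∀ n m : ℕ, I ^ n ≤ K ^ n ⊔ (I ^ (n + m)).closure := by
    intro n m
    induction m with
    | zero => exact le_sup_of_le_right (le_closure _)
    | succ m ih =>
      refine ih.trans (sup_le le_sup_left ?_)
      have h1 : IsOpen ((K ^ n ⊔ (I ^ (n + (m + 1))).closure : Ideal A) : Set A) :=
        isOpen_of_le (I := (I ^ (n + (m + 1))).closure)
          (isOpen_closure_pow_of_isWeaklyPreadic hA hI.1 _) le_sup_right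
      refine fun x hx => closure_le_of_le h1 ((hstep (n + m)).trans (sup_le ?_ le_sup_right)) hx
      exact le_sup_of_le_left (Ideal.pow_le_pow_right (by omega))
  have hcl : ∀ n : ℕ, (I ^ n).closure ≤ (K ^ n).closure := by
    intro n
    refine fun x hx => closure_minimal (fun y hy => ?_) isClosed_closure hx
    refine mem_closure_iff_nhds.mpr fun U hU => ?_
    have h0 : (fun z => y + z) ⁻¹' U ∈ 𝓝 (0 : A) :=
      (continuous_const.add continuous_id).continuousAt.preimage_mem_nhds (by simpa using hU)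
    obtain ⟨J, hJ, hJU⟩ := exists_open_ideal h0
    obtain ⟨m, -, hm⟩ := hI.2 J (hJ.mem_nhds (zero_mem J))
    obtain ⟨k, hk, j, hj, rfl⟩ := Submodule.mem_sup.mp (hstep2 n m hy)
    have hjJ : j ∈ J := closure_le_of_le hJ
      ((Ideal.pow_le_pow_right (Nat.le_add_left m n)).trans hm) hj
    exact ⟨k, by simpa using hJU (neg_mem hjJ), hk⟩
  refine isAdicRing_of_closure (Submodule.fg_def.mpr ⟨_, Set.finite_range a, rfl⟩)
    (fun n => ?_) fun U hU => ?_
  · have h1 := isOpen_closure_pow_of_isWeaklyPreadic hA hI.1 n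
    rw [← Ideal.coe_closure] at h1
    exact isOpen_closure_of_le h1 (hcl n)
  · obtain ⟨W, hW, hWU⟩ := exists_open_ideal hU
    obtain ⟨n, -, hn⟩ := hI.2 W (hW.mem_nhds (zero_mem W))
    exact ⟨n, (closure_le_of_le hW ((Ideal.pow_right_mono hKI n).trans hn)).trans hWU⟩

theorem isAdicRing_of_isTautFFlat_fg {B : Type v} [CommRing B] [TopologicalSpace B]
    [IsTopologicalRing B] {φ : A →+* B} (hφ : _root_.LinTop.IsTautFFlat φ)
    (hB : _root_.LinTop.IsPreadic B) {J : Ideal B} (hJ : _root_.LinTop.IsIdealOfDefinition B J)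
    (hfg : J.FG) :
    _root_.LinTop.IsAdicRing A ∧ ∃ I : Ideal A, _root_.LinTop.IsIdealOfDefinition A I ∧ I.FG := by
  classical
  obtain ⟨K₀, hK₀⟩ := hB
  have hBlin := isLinearTopology_of_isAdic hK₀
  obtain ⟨-, I, hI⟩ := isPreadmissible_of_isTautFFlat hφ ⟨hBlin, J, hJ⟩
  obtain ⟨m₀, hm₀⟩ := (isAdic_iff.mp hK₀).2 J (hJ.1.mem_nhds (zero_mem J))
  have hJpow : ∀ n, IsOpen ((J ^ n : Ideal B) : Set B) := fun n => by
    refine isOpen_of_le ((isAdic_iff.mp hK₀).1 (m₀ * n)) ?_
    rw [pow_mul]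
    exact Ideal.pow_right_mono hm₀ n
  obtain ⟨m, -, hm⟩ := hJ.2 _ ((hφ.1.2.1 I hI.1).mem_nhds (subset_closure (zero_mem _)))
  obtain ⟨G, hG⟩ := Ideal.FG.pow hfg (n := m)
  have hg : ∀ g : (G : Set B), ∃ T : Finset A, (T : Set A) ⊆ I ∧
      (g : B) ∈ (Ideal.span (T : Set A)).map φ ⊔ J ^ (m + 1) := by
    intro g
    have hg' : (g : B) ∈ (I.map φ).closure := hm (hG ▸ Ideal.subset_span g.2)
    have hopen : IsOpen ((I.map φ ⊔ J ^ (m + 1) : Ideal B) : Set B) :=
      isOpen_of_le (hJpow (m + 1)) le_sup_right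
    obtain ⟨y, hy, j, hj, hyj⟩ := Submodule.mem_sup.mp (closure_le_of_le hopen le_sup_left hg')
    obtain ⟨T, hT, hyT⟩ := Submodule.mem_span_finite_of_mem_span hy
    obtain ⟨T', hT', rfl⟩ := Finset.subset_set_image_iff.mp hT
    refine ⟨T', hT', Submodule.mem_sup.mpr ⟨y, ?_, j, hj, hyj⟩⟩
    rw [Ideal.map_span, ← Finset.coe_image]
    exact hyT
  choose T hTI hT using hg
  let S : Finset A := Finset.univ.biUnion T
  let K := Ideal.span (S : Set A)
  have hKI : K ≤ I := by
    refine Ideal.span_le.mpr fun x hx => ?_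
    obtain ⟨g, -, hxg⟩ := Finset.mem_biUnion.mp (Finset.mem_coe.mp hx)
    exact hTI g hxg
  have h1 : J ^ m ≤ K.map φ ⊔ J ^ (m + 1) := by
    rw [← hG]
    refine Ideal.span_le.mpr fun g hg => ?_
    have hle : (Ideal.span (T ⟨g, hg⟩ : Set A)).map φ ⊔ J ^ (m + 1) ≤ K.map φ ⊔ J ^ (m + 1) :=
      sup_le (le_sup_of_le_left (Ideal.map_mono (Ideal.span_mono fun x hx => Finset.mem_biUnion.mpr ⟨⟨g, hg⟩, Finset.mem_univ _, hx⟩))) le_sup_right
    exact hle (hT ⟨g, hg⟩)
    
  have h2 : ∀ k, J ^ m ≤ K.map φ ⊔ J ^ (m + k) := by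
    intro k
    induction k with
    | zero => exact le_sup_right
    | succ k ih =>
      refine ih.trans (sup_le le_sup_left ?_)
      rw [pow_add, add_comm k 1, ← add_assoc, pow_add J (m + 1) k]
      refine (Ideal.mul_mono_left h1).trans ?_
      rw [Ideal.sup_mul]
      exact sup_le_sup Ideal.mul_le_left le_rfl
  have h3 : J ^ m ≤ (K.map φ).closure := by
    intro y hy
    refine mem_closure_iff_nhds.mpr fun U hU => ?_
    have h0 : (fun z => y + z) ⁻¹' U ∈ 𝓝 (0 : B) :=
      (continuous_const.add continuous_id).continuousAt.preimage_mem_nhds (by simpa using hU)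
    obtain ⟨k, -, hk⟩ := hJ.2 _ h0
    obtain ⟨z, hz, j, hj, rfl⟩ := Submodule.mem_sup.mp (h2 k hy)
    exact ⟨z, by simpa using hk (Ideal.pow_le_pow_right (Nat.le_add_left k m) (neg_mem hj)), hz⟩
  refine isAdicRing_of_closure (Submodule.fg_span S.finite_toSet) (fun n => ?_) fun U hU => ?_
  · refine isOpen_closure_of_isOpen_closure_map hφ ?_
    refine isOpen_closure_of_le (hJpow (m * n)) fun x hx => ?_
    rw [pow_mul] at hx
    have := closure_pow_le (K.map φ) n (Ideal.pow_right_mono h3 n hx)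
    rwa [← Ideal.map_pow] at this
  · obtain ⟨W, hW, hWU⟩ := exists_open_ideal hU
    obtain ⟨n, -, hn⟩ := hI.2 W (hW.mem_nhds (zero_mem W))
    exact ⟨n, (closure_le_of_le hW ((Ideal.pow_right_mono hKI n).trans hn)).trans hWU⟩

end Groth.L05.LinTop
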