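import Groth.Agent.L05.LinTop.Basic
import Mathlib.RingTheory.Henselian

/-!
# Complete linearly topologized rings are henselian along topologically nilpotent ideals
-/

open Filter Topology

namespace Groth.L05.LinTop

universe u

variable {A : Type u} [CommRing A] [UniformSpace A] [IsUniformAddGroup A] [IsTopologicalRing A]
  [IsLinearTopology A A] [T2Space A] [CompleteSpace A]

theorem henselianRing_of_isTN {I : Ideal A} (hI : ∀ x ∈ I, IsTopologicallyNilpotent x) :
    HenselianRing A I where
  jac := le_jacobson_of_isTN hI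
  is_henselian f hf a₀ h1 h2 := by
    set c := f.eval a₀
    have hc : ∀ U ∈ 𝓝 (0 : A), ∃ n, ((Ideal.span {c} ^ n : Ideal A) : Set A) ⊆ U := fun U hU => by
      obtain ⟨J, hJ, hJU⟩ := exists_open_ideal hU
      obtain ⟨n, hn⟩ := isTN_iff.mp (hI c h1) J hJ
      refine ⟨n, subset_trans ?_ hJU⟩
      rw [Ideal.span_singleton_pow]
      exact Ideal.span_le.mpr (Set.singleton_subset_iff.mpr hn)
    have := isAdicComplete_of_fg (Submodule.fg_span_singleton c) hc
    have hu : IsUnit (Ideal.Quotient.mk (Ideal.span {c}) (f.derivative.eval a₀)) := by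
      refine (IsUnit.map _ ?_)
      obtain ⟨v, hv⟩ := Ideal.Quotient.mk_surjective (h2.unit⁻¹ : (A ⧸ I)ˣ).val
      have h3 : f.derivative.eval a₀ * v - 1 ∈ I := by
        rw [← Ideal.Quotient.eq, map_mul, hv, map_one]
        exact h2.mul_val_inv
      have := Ideal.mem_jacobson_bot.mp (le_jacobson_of_isTN hI h3) 1
      rw [mul_one, sub_add_cancel] at this
      exact isUnit_of_mul_isUnit_left this
    obtain ⟨a, ha, ha'⟩ := HenselianRing.is_henselian (R := A) (I := Ideal.span {c}) f hf a₀
      (Ideal.mem_span_singleton_self c) hu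
    exact ⟨a, ha, (Ideal.span_singleton_le_iff_mem (I := I)).mpr h1 ha'⟩

end Groth.L05.LinTop
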