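import Mathlib.Topology.Algebra.GroupCompletion
import Mathlib.Topology.Algebra.LinearTopology
import Mathlib.Topology.Algebra.InfiniteSum.Nonarchimedean
import Mathlib.Topology.Algebra.InfiniteSum.NatInt
import Mathlib.Topology.Algebra.OpenSubgroup
import Mathlib.Topology.Algebra.IsUniformGroup.Basic

/-!
# Completion of quotient maps of linearly topologized groups
-/

open Filter Topology UniformSpace

namespace Groth.L05.LinTop

universe u v

/-- Successive approximation: a continuous homomorphism from a complete first countable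
nonarchimedean group with all closures of images of open subgroups open maps open subgroups
onto these closures. -/
theorem closure_image_subset_image {G : Type u} {G' : Type v} [AddCommGroup G] [UniformSpace G]
    [IsUniformAddGroup G] [CompleteSpace G] [T2Space G] [NonarchimedeanAddGroup G]
    (hG : (𝓝 (0 : G)).IsCountablyGenerated) [AddCommGroup G'] [TopologicalSpace G']
    [IsTopologicalAddGroup G'] [T2Space G'] (f : G →+ G') (hf : Continuous f)
    (hopen : ∀ H : OpenAddSubgroup G, IsOpen (closure (f '' (H : Set G))))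
    (H₀ : OpenAddSubgroup G) : closure (f '' (H₀ : Set G)) ⊆ f '' (H₀ : Set G) := by
  haveI := hG
  obtain ⟨V, hV⟩ := (𝓝 (0 : G)).exists_antitone_basis
  choose K hK using fun n => NonarchimedeanAddGroup.is_nonarchimedean (V n) (hV.mem n)
  let H : ℕ → OpenAddSubgroup G := fun k => match k with
    | 0 => H₀
    | j + 1 => H₀ ⊓ K j
  have hle : ∀ k, (H k : Set G) ⊆ H₀ := fun k => by
    cases k with
    | zero => exact subset_rfl
    | succ j => exact fun x hx => hx.1
  have htend : ∀ U ∈ 𝓝 (0 : G), ∃ n, ∀ k ≥ n, (H k : Set G) ⊆ U := fun U hU => by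
    obtain ⟨n, -, hn⟩ := hV.1.mem_iff.mp hU
    refine ⟨n + 1, fun k hk => ?_⟩
    obtain ⟨j, rfl⟩ : ∃ j, k = j + 1 := ⟨k - 1, by omega⟩
    exact fun x hx => hn (hV.antitone (by omega) (hK j hx.2))
  intro b hb
  let C : ℕ → AddSubgroup G' := fun k => ((H k).toAddSubgroup.map f).topologicalClosure
  have hC : ∀ k, (C k : Set G') = closure (f '' (H k : Set G)) := fun k => rfl
  have hstep : ∀ (k : ℕ) (y : C k), ∃ a ∈ H k, (y : G') - f a ∈ C (k + 1) := by
    rintro k ⟨y, hy⟩
    have hCo : IsOpen (C (k + 1) : Set G') := hC (k + 1) ▸ hopen (H (k + 1))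
    have hU : {z | y - z ∈ C (k + 1)} ∈ 𝓝 y :=
      (hCo.preimage (continuous_const.sub continuous_id)).mem_nhds (by simp)
    obtain ⟨_, h1, a, ha, rfl⟩ := mem_closure_iff_nhds.mp
      (show y ∈ closure (f '' (H k : Set G)) from hy) _ hU
    exact ⟨a, ha, h1⟩
  choose a ha ha' using hstep
  let r : (k : ℕ) → C k :=
    fun k => Nat.rec (motive := fun k => C k) ⟨b, hb⟩
      (fun k y => ⟨(y : G') - f (a k y), ha' k y⟩) k
  have hr : ∀ k, (r (k + 1)).1 = (r k).1 - f (a k (r k)) := fun k => rfl
  have ha0 : Tendsto (fun k => a k (r k)) atTop (𝓝 0) := tendsto_def.mpr fun U hU => by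
    obtain ⟨n, hn⟩ := htend U hU
    exact eventually_atTop.mpr ⟨n, fun k hk => hn k hk (ha k (r k))⟩
  obtain ⟨s, hs⟩ := NonarchimedeanAddGroup.summable_of_tendsto_cofinite_zero
    (f := fun k => a k (r k)) (by rwa [Nat.cofinite_eq_atTop])
  have hs0 : s ∈ (H₀ : Set G) := (AddSubgroup.isClosed_of_isOpen _ H₀.isOpen).mem_of_tendsto
    hs.tendsto_sum_nat (Eventually.of_forall fun N => sum_mem fun k _ => hle k (ha k (r k)))
  refine ⟨s, hs0, ?_⟩
  have hpart : ∀ N, f (∑ k ∈ Finset.range N, a k (r k)) = b - r N := by
    intro N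
    induction N with
    | zero => simp [r]
    | succ N ih => rw [Finset.sum_range_succ, map_add, ih, hr]; abel
  have h0 : Tendsto (fun N => (r N : G')) atTop (𝓝 0) := tendsto_def.mpr fun U hU => by
    obtain ⟨W, hW, hWc, hWU⟩ := exists_mem_nhds_isClosed_subset hU
    obtain ⟨n, hn⟩ := htend _ (hf.continuousAt.preimage_mem_nhds (by rwa [map_zero]))
    exact eventually_atTop.mpr ⟨n, fun k hk =>
      hWU (closure_minimal (Set.image_subset_iff.mpr (hn k hk)) hWc (r k).2)⟩
  have h1 : Tendsto (fun N => b - (r N : G')) atTop (𝓝 (f s)) := by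
    simpa only [Function.comp_def, hpart] using (hf.tendsto s).comp hs.tendsto_sum_nat
  exact tendsto_nhds_unique h1 (by simpa using h0.const_sub b)

variable {M : Type u} [AddCommGroup M] [UniformSpace M] [IsUniformAddGroup M]

theorem isOpen_closure_image_coe {B : AddSubgroup M} (hB : IsOpen (B : Set M)) :
    IsOpen (closure (((↑) : M → Completion M) '' (B : Set M))) := by
  refine ((B.map (Completion.toCompl : M →+ Completion M)).topologicalClosure).isOpen_of_mem_nhds
    (g := 0) ?_
  have h := (Completion.isDenseInducing_coe (α := M)).closure_image_mem_nhds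
    (hB.mem_nhds (zero_mem B))
  rw [Completion.coe_zero] at h
  exact h

theorem exists_small_open [NonarchimedeanAddGroup M] {U : Set (Completion M)} (hU : U ∈ 𝓝 0) :
    ∃ B : OpenAddSubgroup M, closure (((↑) : M → Completion M) '' (B : Set M)) ⊆ U := by
  obtain ⟨V, hV, hVc, hVU⟩ := exists_mem_nhds_isClosed_subset hU
  obtain ⟨B, hB⟩ := NonarchimedeanAddGroup.is_nonarchimedean _
    ((Completion.continuous_coe M).continuousAt.preimage_mem_nhds (by rwa [Completion.coe_zero]))
  exact ⟨B, (closure_minimal (Set.image_subset_iff.mpr hB) hVc).trans hVU⟩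

theorem nonarchimedean_completion [NonarchimedeanAddGroup M] :
    NonarchimedeanAddGroup (Completion M) where
  is_nonarchimedean U hU := by
    obtain ⟨B, hB⟩ := exists_small_open hU
    exact ⟨⟨((B.toAddSubgroup.map (Completion.toCompl : M →+ Completion M)).topologicalClosure),
      isOpen_closure_image_coe B.isOpen⟩, hB⟩

variable {Q : Type v} [AddCommGroup Q] [UniformSpace Q] [IsUniformAddGroup Q]

theorem preimage_zero_completion [NonarchimedeanAddGroup M] (q : M →+ Q) (hq : Continuous q)
    (hqo : IsOpenMap q) :
    Completion.map q ⁻¹' {0} =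
      closure (((↑) : M → Completion M) '' (q.ker : Set M)) := by
  have hqu := uniformContinuous_addMonoidHom_of_continuous hq
  have hmap : Continuous (Completion.map q) := Completion.continuous_map
  refine subset_antisymm (fun x hx => ?_) (closure_minimal ?_ (isClosed_singleton.preimage hmap))
  · refine mem_closure_iff_nhds.mpr fun U hU => ?_
    have h0 : (fun z => x + z) ⁻¹' U ∈ 𝓝 (0 : Completion M) :=
      (continuous_const.add continuous_id).continuousAt.preimage_mem_nhds (by simpa using hU)
    obtain ⟨B, hB⟩ := exists_small_open h0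
    let H : AddSubgroup (Completion M) :=
      (B.toAddSubgroup.map (Completion.toCompl : M →+ Completion M)).topologicalClosure
    have hHo : IsOpen (H : Set (Completion M)) := isOpen_closure_image_coe B.isOpen
    obtain ⟨m, hm⟩ := (Completion.denseRange_coe (α := M)).exists_mem_open
      (hHo.preimage (continuous_const.sub continuous_id) (t := (H : Set _)))
      ⟨x, by simp⟩ |> fun ⟨a, ha⟩ => (⟨a, ha⟩ : ∃ m : M, x - (m : Completion M) ∈ H)
    have hxm : x ∈ closure (((↑) : M → Completion M) '' ((fun b => m + b) '' (B : Set M))) := by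
      have h1 : x - (m : Completion M) ∈ closure (((↑) : M → Completion M) '' (B : Set M)) := hm
      have h2 := map_mem_closure (f := fun z => (m : Completion M) + z)
        (continuous_const.add continuous_id) h1
        (t := ((↑) : M → Completion M) '' ((fun b => m + b) '' (B : Set M)))
        (fun _ ⟨b, hb, e⟩ => ⟨m + b, ⟨b, hb, rfl⟩, by rw [Completion.coe_add, e]⟩)
      simpa using h2
    have h3 : (0 : Completion Q) ∈
        closure (((↑) : Q → Completion Q) '' (q '' ((fun b => m + b) '' (B : Set M)))) := by
      have h := map_mem_closure hmap hxm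
        (t := ((↑) : Q → Completion Q) '' (q '' ((fun b => m + b) '' (B : Set M))))
        (fun _ ⟨y, hy, e⟩ => ⟨q y, ⟨y, hy, rfl⟩, by rw [← e, Completion.map_coe hqu]⟩)
      rwa [show Completion.map q x = 0 from hx] at h
    replace h3 : (0 : Q) ∈ closure (q '' ((fun b => m + b) '' (B : Set M))) := by
      rw [(Completion.isDenseInducing_coe (α := Q)).isInducing.closure_eq_preimage_closure_image,
        Set.mem_preimage, Completion.coe_zero]
      exact h3
    have hcl : IsClosed (q '' ((fun b => m + b) '' (B : Set M))) := by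
      have : q '' ((fun b => m + b) '' (B : Set M)) =
          (fun z => -q m + z) ⁻¹' (B.toAddSubgroup.map q : Set Q) := by
        ext z
        simp only [Set.mem_image, Set.mem_preimage, SetLike.mem_coe, AddSubgroup.mem_map]
        constructor
        · rintro ⟨_, ⟨b, hb, rfl⟩, rfl⟩
          exact ⟨b, hb, by simp⟩
        · rintro ⟨b, hb, e⟩
          exact ⟨m + b, ⟨b, hb, rfl⟩, by rw [map_add, e]; abel⟩
      rw [this]
      exact (AddSubgroup.isClosed_of_isOpen _ (hqo _ B.isOpen)).preimage
        (continuous_const.add continuous_id)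
    rw [hcl.closure_eq] at h3
    obtain ⟨_, ⟨b, hb, rfl⟩, e⟩ := h3
    refine ⟨((m + b : M) : Completion M), ?_, ⟨m + b, e, rfl⟩⟩
    have : ((m + b : M) : Completion M) - x ∈ H := by
      have hb' : (b : Completion M) ∈ H := subset_closure ⟨b, hb, rfl⟩
      have := add_mem (neg_mem hm) hb'
      simpa [Completion.coe_add, sub_eq_add_neg, add_comm, add_left_comm, add_assoc] using this
    simpa using hB this
  · rintro _ ⟨n, hn, rfl⟩
    rw [Set.mem_preimage, Completion.map_coe hqu, Set.mem_singleton_iff,
      show q n = 0 from hn, Completion.coe_zero]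

theorem surjective_isOpenMap_completion [NonarchimedeanAddGroup M]
    (hM : (𝓝 (0 : M)).IsCountablyGenerated) (q : M →+ Q) (hq : Continuous q)
    (hqo : IsOpenMap q) (hqs : Function.Surjective q) :
    Function.Surjective (Completion.map q) ∧ IsOpenMap (Completion.map q) := by
  have hqu := uniformContinuous_addMonoidHom_of_continuous hq
  let f : Completion M →+ Completion Q := q.completion hq
  have hf : Continuous f := q.continuous_completion hq
  have hfm : Completion.map q = f :=
    Completion.ext Completion.continuous_map hf fun a => by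
      rw [Completion.map_coe hqu, AddMonoidHom.completion_coe]
  haveI := nonarchimedean_completion (M := M)
  have hcg : (𝓝 (0 : Completion M)).IsCountablyGenerated := by
    haveI := hM
    obtain ⟨V, hV⟩ := (𝓝 (0 : M)).exists_antitone_basis
    choose K hK using fun n => NonarchimedeanAddGroup.is_nonarchimedean (V n) (hV.mem n)
    have : (𝓝 (0 : Completion M)).HasBasis (fun _ : ℕ => True)
        (fun n => closure (((↑) : M → Completion M) '' (K n : Set M))) := by
      refine hasBasis_iff.mpr fun U => ⟨fun hU => ?_, fun ⟨n, _, hn⟩ => mem_of_superset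
        ((isOpen_closure_image_coe (K n).isOpen).mem_nhds
          (subset_closure ⟨0, zero_mem (K n), Completion.coe_zero⟩)) hn⟩
      obtain ⟨B, hB⟩ := exists_small_open hU
      obtain ⟨n, -, hn⟩ := hV.1.mem_iff.mp B.mem_nhds_zero
      exact ⟨n, trivial, (_root_.closure_mono (Set.image_mono fun x hx => hn (hK n hx))).trans hB⟩
    exact this.isCountablyGenerated
  have hopen : ∀ H : OpenAddSubgroup (Completion M), IsOpen (closure (f '' (H : Set _))) := by
    intro H
    have hB : IsOpen (((↑) : M → Completion M) ⁻¹' (H : Set _)) :=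
      H.isOpen.preimage (Completion.continuous_coe M)
    let B : AddSubgroup M := H.toAddSubgroup.comap Completion.toCompl
    refine ((H.toAddSubgroup.map f).topologicalClosure).isOpen_of_mem_nhds (g := 0) ?_
    refine mem_of_superset ((isOpen_closure_image_coe (B := B.map q) (hqo _ hB)).mem_nhds
      (subset_closure ⟨0, zero_mem _, Completion.coe_zero⟩)) ?_
    refine _root_.closure_mono ?_
    rintro _ ⟨_, ⟨b, hb, rfl⟩, rfl⟩
    exact ⟨(b : Completion M), hb, q.completion_coe hq b⟩
  have key := closure_image_subset_image hcg f hf hopen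
  have hfo : IsOpenMap f := by
    refine IsTopologicalAddGroup.isOpenMap_iff_nhds_zero.mpr fun U hU => ?_
    obtain ⟨H, hH⟩ := NonarchimedeanAddGroup.is_nonarchimedean _ (Filter.mem_map.mp hU)
    exact mem_of_superset ((hopen H).mem_nhds (subset_closure ⟨0, zero_mem H, map_zero f⟩))
      ((key H).trans (Set.image_subset_iff.mpr hH))
  rw [hfm]
  refine ⟨fun y => ?_, hfo⟩
  have hd : y ∈ closure (f '' ((⊤ : OpenAddSubgroup (Completion M)) : Set (Completion M))) := by
    refine _root_.closure_mono ?_ (Completion.denseRange_coe (α := Q) y)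
    rintro _ ⟨z, rfl⟩
    obtain ⟨m, rfl⟩ := hqs z
    exact ⟨(m : Completion M), trivial, q.completion_coe hq m⟩
  obtain ⟨x, -, hx⟩ := key ⊤ hd
  exact ⟨x, hx⟩

end Groth.L05.LinTop
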