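import Groth.Agent.L05.LinTop.Taut
import Mathlib.Topology.Algebra.IsUniformGroup.Basic
import Mathlib.Topology.Maps.OpenQuotient
import Mathlib.GroupTheory.QuotientGroup.Basic

/-!
# Taut maps with dense range out of complete countably based rings
-/

open Filter Topology

namespace Groth.L05.LinTop

universe u v

variable {A : Type u} [CommRing A] [UniformSpace A] [IsUniformAddGroup A] [IsTopologicalRing A]
  [IsLinearTopology A A] [T2Space A] [CompleteSpace A] {B : Type v} [CommRing B]

theorem closure_map_eq_closure_image [TopologicalSpace B] [IsTopologicalRing B] {φ : A →+* B}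
    (hd : DenseRange φ) (I : Ideal A) :
    closure ((I.map φ : Ideal B) : Set B) = closure (φ '' (I : Set A)) := by
  refine subset_antisymm (closure_minimal (fun x hx => ?_) isClosed_closure)
    (_root_.closure_mono (Set.image_subset_iff.mpr fun _ hx => Ideal.mem_map_of_mem _ hx))
  induction hx using Submodule.span_induction with
  | mem y hy => exact subset_closure hy
  | zero => exact subset_closure ⟨0, zero_mem I, map_zero φ⟩
  | add y z _ _ hy hz =>
    exact map_mem_closure₂ continuous_add hy hz fun _ ⟨a, ha, ea⟩ _ ⟨b, hb, eb⟩ =>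
      ⟨a + b, add_mem ha hb, by rw [map_add, ea, eb]⟩
  | smul r y _ hy =>
    exact map_mem_closure₂ continuous_mul (show r ∈ closure (Set.range φ) from hd r) hy
      fun _ ⟨a, ea⟩ _ ⟨b, hb, eb⟩ =>
        ⟨a * b, I.mul_mem_left a hb, by rw [map_mul, ea, eb, smul_eq_mul]⟩

theorem surjective_openQuotient [UniformSpace B] [IsUniformAddGroup B] [IsTopologicalRing B]
    [T2Space B] (hA : (𝓝 (0 : A)).IsCountablyGenerated) {φ : A →+* B}
    (hφ : _root_.LinTop.IsTaut φ) (hd : DenseRange φ) :
    Function.Surjective φ ∧ IsOpenQuotientMap φ ∧ CompleteSpace B := by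
  haveI := hA
  obtain ⟨V, hV⟩ := (𝓝 (0 : A)).exists_antitone_basis
  choose I hI hIV using fun n => exists_open_ideal (hV.mem n)
  have hItend : ∀ U ∈ 𝓝 (0 : A), ∃ n, ∀ m ≥ n, (I m : Set A) ⊆ U := fun U hU => by
    obtain ⟨n, -, hn⟩ := hV.1.mem_iff.mp hU
    exact ⟨n, fun m hm => ((hIV m).trans (hV.antitone hm)).trans hn⟩
  -- every open ideal maps onto the closure of its extension
  have key : ∀ J : Ideal A, IsOpen (J : Set A) →
      closure ((J.map φ : Ideal B) : Set B) ⊆ φ '' (J : Set A) := by
    intro J hJ b hb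
    let J' : ℕ → Ideal A := fun k => match k with
      | 0 => J
      | j + 1 => J ⊓ I j
    have hJ' : ∀ k, IsOpen (J' k : Set A) := fun k => by cases k with
      | zero => exact hJ
      | succ k => exact hJ.inter (hI k)
    have hJ'le : ∀ k, J' k ≤ J := fun k => by cases k with
      | zero => exact le_rfl
      | succ k => exact inf_le_left
    have hstep : ∀ (k : ℕ) (y : ((J' k).map φ).closure), ∃ a ∈ J' k,
        (y : B) - φ a ∈ ((J' (k + 1)).map φ).closure := by
      rintro k ⟨y, hy⟩
      have hy' : y ∈ closure (φ '' (J' k : Set A)) := closure_map_eq_closure_image hd (J' k) ▸ hy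
      have hU : {z | y - z ∈ closure (((J' (k + 1)).map φ : Ideal B) : Set B)} ∈ 𝓝 y := by
        refine ((hφ.2.1 _ (hJ' (k + 1))).preimage (continuous_const.sub continuous_id)).mem_nhds ?_
        show y - y ∈ closure _
        rw [sub_self]
        exact subset_closure (zero_mem _)
      obtain ⟨_, h1, a, ha, rfl⟩ := mem_closure_iff_nhds.mp hy' _ hU
      exact ⟨a, ha, h1⟩
    choose a ha ha' using hstep
    let r : (k : ℕ) → ((J' k).map φ).closure :=
      fun k => Nat.rec (motive := fun k => ((J' k).map φ).closure) ⟨b, hb⟩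
        (fun k y => ⟨(y : B) - φ (a k y), ha' k y⟩) k
    have hr : ∀ k, (r (k + 1)).1 = (r k).1 - φ (a k (r k)) := fun k => rfl
    have hJ'tend : ∀ U ∈ 𝓝 (0 : A), ∃ n, ∀ k ≥ n, (J' k : Set A) ⊆ U := fun U hU => by
      obtain ⟨n, hn⟩ := hItend U hU
      refine ⟨n + 1, fun k hk => ?_⟩
      obtain ⟨k, rfl⟩ : ∃ j, k = j + 1 := ⟨k - 1, by omega⟩
      exact subset_trans (fun x hx => hx.2) (hn k (by omega))
    have ha0 : Tendsto (fun k => a k (r k)) atTop (𝓝 0) := tendsto_def.mpr fun U hU => by
      obtain ⟨n, hn⟩ := hJ'tend U hU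
      exact eventually_atTop.mpr ⟨n, fun k hk => hn k hk (ha k (r k))⟩
    obtain ⟨s, hs⟩ := summable_of_tendsto ha0
    have hsJ : s ∈ J := (isClosed_of_isOpen hJ).mem_of_tendsto hs.tendsto_sum_nat
      (Eventually.of_forall fun N => sum_mem fun k _ => hJ'le k (ha k (r k)))
    refine ⟨s, hsJ, ?_⟩
    have hpart : ∀ N, φ (∑ k ∈ Finset.range N, a k (r k)) = b - r N := by
      intro N
      induction N with
      | zero => simp [r]
      | succ N ih => rw [Finset.sum_range_succ, map_add, ih, hr]; abel
    have h0 : Tendsto (fun N => (r N : B)) atTop (𝓝 0) := tendsto_def.mpr fun U hU => by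
      obtain ⟨K, hK, hKU⟩ := hφ.2.2 U hU
      obtain ⟨n, hn⟩ := hJ'tend K (hK.mem_nhds (zero_mem K))
      exact eventually_atTop.mpr ⟨n, fun k hk => hKU (closure_mono (Ideal.map_mono (hn k hk)) (r k).2)⟩
    have h1 : Tendsto (fun N => b - (r N : B)) atTop (𝓝 (φ s)) := by
      simpa only [Function.comp_def, hpart] using (hφ.1.tendsto s).comp hs.tendsto_sum_nat
    exact (tendsto_nhds_unique h1 (by simpa using h0.const_sub b))
  have himage : ∀ J : Ideal A, IsOpen (J : Set A) →
      φ '' (J : Set A) = closure ((J.map φ : Ideal B) : Set B) := fun J hJ =>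
    subset_antisymm (Set.image_subset_iff.mpr fun x hx => subset_closure (Ideal.mem_map_of_mem φ hx))
      (key J hJ)
  have hopen : IsOpenMap φ := by
    have hadd : IsOpenMap (φ : A →+ B) := by
      refine (IsTopologicalAddGroup.isOpenMap_iff_nhds_zero (f := (φ : A →+ B))).mpr ?_
      intro U hU
      obtain ⟨J, hJ, hJU⟩ := exists_open_ideal (Filter.mem_map.mp hU)
      refine mem_of_superset ((hφ.2.1 J hJ).mem_nhds (subset_closure (zero_mem _))) ?_
      rw [← himage J hJ]
      exact Set.image_subset_iff.mpr hJU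
    exact hadd
  have hsurj : Function.Surjective φ := by
    intro b
    have h := himage ⊤ (by simp)
    rw [Ideal.map_top] at h
    obtain ⟨a, -, ha⟩ := (Set.ext_iff.mp h b).mpr (subset_closure Submodule.mem_top)
    exact ⟨a, ha⟩
  refine ⟨hsurj, ⟨hsurj, hφ.1, hopen⟩, ?_⟩
  haveI : FirstCountableTopology A := by
    refine ⟨fun x => ?_⟩
    rw [← map_add_left_nhds_zero x]
    infer_instance
  let K : AddSubgroup A := (φ : A →+ B).ker
  letI : UniformSpace (A ⧸ K) := IsTopologicalAddGroup.rightUniformSpace (A ⧸ K)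
  haveI : IsUniformAddGroup (A ⧸ K) := isUniformAddGroup_of_addCommGroup
  haveI : CompleteSpace (A ⧸ K) := QuotientAddGroup.completeSpace_right A K
  let e : A ⧸ K ≃+ B := QuotientAddGroup.quotientKerEquivOfSurjective (φ : A →+ B) hsurj
  have he : Continuous e := continuous_coinduced_dom.mpr hφ.1
  have he' : Continuous e.symm := by
    refine (IsOpenQuotientMap.continuous_comp_iff ⟨hsurj, hφ.1, hopen⟩).mp ?_
    have : e.symm ∘ φ = QuotientAddGroup.mk := funext fun a => e.symm_apply_eq.mpr rfl
    rw [this]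
    exact continuous_quotient_mk'
  exact (completeSpace_congr
    (e := e.toEquiv) ({ e.toEquiv with
      uniformContinuous_toFun := uniformContinuous_addMonoidHom_of_continuous (f := e.toAddMonoidHom) he
      uniformContinuous_invFun := uniformContinuous_addMonoidHom_of_continuous (f := e.symm.toAddMonoidHom) he'
      } : UniformEquiv (A ⧸ K) B).isUniformEmbedding).mp inferInstance

end Groth.L05.LinTop
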