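import Groth.Agent.L05.LinTop.Taut

/-!
# A weakly preadic ring receives a taut map from a preadic one
-/

open Filter Topology

namespace Groth.L05.LinTop

universe u

/-- The ring `A` re-equipped with an adic topology. -/
def AdicSyn {A : Type u} [CommRing A] (_I : Ideal A) : Type u := A

variable {A : Type u} [CommRing A] (I : Ideal A)

instance : CommRing (AdicSyn I) := inferInstanceAs (CommRing A)

instance : TopologicalSpace (AdicSyn I) := I.adicTopology

instance : IsTopologicalRing (AdicSyn I) :=
  (I.nonarchimedean).toIsTopologicalRing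

/-- The identity, seen as a map from the adic ring. -/
def AdicSyn.toBase : AdicSyn I →+* A := RingHom.id A

theorem exists_preadic_taut [TopologicalSpace A] [IsTopologicalRing A]
    (hA : _root_.LinTop.IsWeaklyPreadic A) :
    ∃ (A' : Type u) (_ : CommRing A') (_ : TopologicalSpace A') (_ : IsTopologicalRing A')
      (φ : A' →+* A), _root_.LinTop.IsPreadic A' ∧ _root_.LinTop.IsTaut φ := by
  obtain ⟨-, I, hopen, hbasis⟩ := hA
  have hmap : ∀ J : Ideal (AdicSyn I), (J.map (AdicSyn.toBase I) : Ideal A) = (J : Ideal A) :=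
    fun J => Ideal.map_id (J : Ideal A)
  have hnhds : (𝓝 (0 : AdicSyn I)).HasBasis (fun _ : ℕ => True)
      fun n => ((I ^ n : Ideal A) : Set A) := I.hasBasis_nhds_zero_adic
  refine ⟨AdicSyn I, inferInstance, inferInstance, inferInstance, AdicSyn.toBase I, ⟨I, rfl⟩,
    ?_, fun J hJ => ?_, fun U hU => ?_⟩
  · refine continuous_of_continuousAt_zero (AdicSyn.toBase I) ?_
    intro U hU
    obtain ⟨n, hn⟩ := hbasis U (by simpa using hU)
    exact Filter.mem_map.mpr (Filter.mem_of_superset
      (hnhds.mem_of_mem (i := n) trivial) fun x hx => hn (subset_closure hx))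
  · rw [hmap]
    obtain ⟨n, -, hn⟩ := hnhds.mem_iff.mp (hJ.mem_nhds (zero_mem J))
    have h1 := hopen n
    rw [← Ideal.coe_closure] at h1
    exact isOpen_closure_of_le (A := A) (I := (I ^ n).closure) (J := (show Ideal A from J)) h1
      (closure_mono (A := A) (I := I ^ n) (J := (show Ideal A from J)) hn)
  · obtain ⟨n, hn⟩ := hbasis U hU
    refine ⟨(I ^ n : Ideal A), ?_, by rw [hmap]; exact hn⟩
    exact @OpenAddSubgroup.isOpen' A _ I.adicTopology (I.openAddSubgroup n)

end Groth.L05.LinTop
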