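import Groth.Agent.L05.LinTop.Basic

/-!
# Taut maps and faithfully flat descent of topological conditions
-/

open Filter Topology

namespace Groth.L05.LinTop

universe u v

variable {A : Type u} [CommRing A] [TopologicalSpace A] {B : Type v} [CommRing B]
  [TopologicalSpace B] [IsTopologicalRing B]

theorem map_le_of_subset {φ : A →+* B} {I : Ideal A} {W : Ideal B} (h : (I : Set A) ⊆ φ ⁻¹' W) :
    I.map φ ≤ W :=
  Ideal.map_le_iff_le_comap.mpr h

theorem taut_basis_of_continuous [IsLinearTopology B B] {φ : A →+* B} (hφ : Continuous φ)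
    {U : Set B} (hU : U ∈ 𝓝 0) :
    ∃ I : Ideal A, IsOpen (I : Set A) ∧ closure ((I.map φ : Ideal B) : Set B) ⊆ U := by
  obtain ⟨W, hW, hWU⟩ := exists_open_ideal hU
  exact ⟨W.comap φ, hW.preimage hφ, (closure_le_of_le hW Ideal.map_comap_le).trans hWU⟩

theorem isTaut_of [IsLinearTopology B B] {φ : A →+* B} (hφ : Continuous φ)
    (h : ∀ I : Ideal A, IsOpen (I : Set A) → IsOpen (closure ((I.map φ : Ideal B) : Set B))) :
    _root_.LinTop.IsTaut φ :=
  ⟨hφ, h, fun _ hU => taut_basis_of_continuous hφ hU⟩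

theorem map_closure_pow_le {φ : A →+* B} (hφ : Continuous φ) [IsTopologicalRing A] (I : Ideal A) :
    I.closure.map φ ≤ (I.map φ).closure :=
  Ideal.map_le_iff_le_comap.mpr fun _ hx =>
    map_mem_closure hφ hx fun _ hy => Ideal.mem_map_of_mem φ hy

theorem isTN_of_mem_closure [IsLinearTopology B B] {s : Set B}
    (hs : ∀ y ∈ s, IsTopologicallyNilpotent y) {x : B} (hx : x ∈ closure s) :
    IsTopologicallyNilpotent x := by
  refine isTN_iff.mpr fun J hJ => ?_
  have hU : {y | x - y ∈ J} ∈ 𝓝 x :=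
    (hJ.preimage (continuous_const.sub continuous_id)).mem_nhds (by simp)
  obtain ⟨y, hxy, hy⟩ := mem_closure_iff_nhds.mp hx _ hU
  obtain ⟨n, hn⟩ := isTN_iff.mp (hs y hy) J hJ
  refine ⟨n, ?_⟩
  rw [← Ideal.Quotient.eq_zero_iff_mem, map_pow, Ideal.Quotient.eq.mpr hxy, ← map_pow,
    Ideal.Quotient.eq_zero_iff_mem]
  exact hn

theorem isTN_of_mem_closure_map [IsLinearTopology B B] {φ : A →+* B} (hφ : Continuous φ)
    {I : Ideal A} (hI : ∀ f ∈ I, IsTopologicallyNilpotent f) {x : B}
    (hx : x ∈ (I.map φ).closure) : IsTopologicallyNilpotent x :=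
  isTN_of_mem_closure (s := topologicalNilradical B)
    (fun _ h => IsTopologicallyNilpotent.mem_topologicalNilradical_iff.mp h)
    (_root_.closure_mono (SetLike.coe_subset_coe.mpr
      ((Ideal.map_le_iff_le_comap (K := topologicalNilradical B)).mpr fun f hf =>
        IsTopologicallyNilpotent.mem_topologicalNilradical_iff.mpr ((hI f hf).map hφ))) hx)

theorem isIdealOfDefinition_closure_map [IsTopologicalRing A] {φ : A →+* B} (hφ : _root_.LinTop.IsTaut φ)
    {I : Ideal A} (hI : _root_.LinTop.IsIdealOfDefinition A I) :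
    _root_.LinTop.IsIdealOfDefinition B (I.map φ).closure := by
  refine ⟨hφ.2.1 I hI.1, fun U hU => ?_⟩
  obtain ⟨I', hI', hU'⟩ := hφ.2.2 U hU
  obtain ⟨n, hn, hle⟩ := hI.2 I' (hI'.mem_nhds (zero_mem I'))
  refine ⟨n, hn, fun x hx => hU' ?_⟩
  have := closure_pow_le (I.map φ) n hx
  rw [← Ideal.map_pow] at this
  exact closure_mono (Ideal.map_mono hle) this

theorem isOpen_closure_map_of_closure [IsTopologicalRing A] {φ : A →+* B}
    (hφ : _root_.LinTop.IsTaut φ) {I : Ideal A} (hI : IsOpen (closure (I : Set A))) :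
    IsOpen (closure ((I.map φ : Ideal B) : Set B)) := by
  have h1 := hφ.2.1 I.closure (by rwa [Ideal.coe_closure])
  rw [← Ideal.coe_closure] at h1
  refine isOpen_closure_of_le h1 ?_
  exact closure_minimal (map_closure_pow_le hφ.1 I) isClosed_closure

theorem comap_closure_map_eq {φ : A →+* B} (hφ : _root_.LinTop.IsTautFFlat φ) {I : Ideal A}
    (hI : IsOpen (I : Set A)) : (I.map φ).closure.comap φ = I := by
  refine le_antisymm (fun x hx => ?_) fun x hx => subset_closure (Ideal.mem_map_of_mem φ hx)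
  refine Ideal.Quotient.eq_zero_iff_mem.mp ((hφ.2 I hI).injective ?_)
  rw [map_zero, _root_.LinTop.descentMap, Ideal.quotientMap_mk]
  exact Ideal.Quotient.eq_zero_iff_mem.mpr hx

/-- Descent: if the closure of the extended ideal is open then so is the closure of the ideal. -/
theorem isOpen_closure_of_isOpen_closure_map [IsTopologicalRing A] [IsLinearTopology A A]
    {φ : A →+* B} (hφ : _root_.LinTop.IsTautFFlat φ) {K : Ideal A}
    (hK : IsOpen (closure ((K.map φ : Ideal B) : Set B))) : IsOpen (closure (K : Set A)) := by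
  have hW : IsOpen (((K.map φ).closure.comap φ : Ideal A) : Set A) := by
    rw [Ideal.coe_comap, Ideal.coe_closure]
    exact hK.preimage hφ.1.1
  refine isOpen_closure_of_le hW fun x hx => ?_
  refine mem_closure_iff_nhds.mpr fun U hU => ?_
  have : (fun z => x + z) ⁻¹' U ∈ 𝓝 (0 : A) :=
    (continuous_const.add continuous_id).continuousAt.preimage_mem_nhds (by simpa using hU)
  obtain ⟨J, hJ, hJU⟩ := exists_open_ideal this
  have hx' : x ∈ K ⊔ J := by
    rw [← comap_closure_map_eq hφ (isOpen_of_le hJ le_sup_right)]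
    exact closure_mono (Ideal.map_mono le_sup_left) hx
  obtain ⟨k, hk, j, hj, rfl⟩ := Submodule.mem_sup.mp hx'
  refine ⟨k, ?_, hk⟩
  simpa using hJU (neg_mem hj)

theorem isPreadmissible_of_isTautFFlat [IsTopologicalRing A] [IsLinearTopology A A] {φ : A →+* B}
    (hφ : _root_.LinTop.IsTautFFlat φ) (hB : _root_.LinTop.IsPreadmissible B) :
    _root_.LinTop.IsPreadmissible A := by
  obtain ⟨-, J, hJ⟩ := hB
  refine ⟨inferInstance, J.comap φ, hJ.1.preimage hφ.1.1, fun U hU => ?_⟩
  obtain ⟨I', hI', hU'⟩ := exists_open_ideal hU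
  obtain ⟨n, hn, hle⟩ := hJ.2 (I'.map φ).closure ((hφ.1.2.1 I' hI').mem_nhds
    (subset_closure (zero_mem _)))
  refine ⟨n, hn, subset_trans ?_ hU'⟩
  refine (SetLike.coe_subset_coe.mpr ?_)
  rw [← comap_closure_map_eq hφ hI']
  exact (Ideal.le_comap_pow φ n).trans (Ideal.comap_mono hle)

end Groth.L05.LinTop
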